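import Mathlib
import Groth.Agent.Lib.Helper5.HP.Red
import Groth.Agent.Lib.Lead.Misc.SerreInd

/-! # Harder–Narasimhan theory in a lattice with a polynomial-valued modular function (slope version: differences are only eventually non-negative), part 1:
the abstract data and the relative maximal destabilising element. -/

set_option autoImplicit false
universe u

namespace Groth.Agent.H5.MuHN

open StabCat Groth.Agent.H5.HP Groth.Agent.LD

/-- abstract data: a bounded lattice with a distinguished class `C` of elements (the coherent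
subobjects), a polynomial-valued function `H` on it which is modular on `C`, the ascending chain
condition on `C`, and positivity/integrality of the differences of `H`. -/
structure HData (𝓛 : Type u) [Lattice 𝓛] [BoundedOrder 𝓛] (d : ℕ) where
  C : 𝓛 → Prop
  H : 𝓛 → Polynomial ℚ
  C_bot : C ⊥
  C_top : C ⊤
  C_inf : ∀ {a b : 𝓛}, C a → C b → C (a ⊓ b)
  C_sup : ∀ {a b : 𝓛}, C a → C b → C (a ⊔ b)
  H_mod : ∀ {a b : 𝓛}, C a → C b → H (a ⊓ b) + H (a ⊔ b) = H a + H b
  acc : ∀ f : ℕ →o 𝓛, (∀ n, C (f n)) → ∃ n, ∀ m, n ≤ m → f m = f n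
  deg_le : ∀ {a b : 𝓛}, C a → C b → a ≤ b → (H b - H a).natDegree ≤ d
  lc_nonneg : ∀ {a b : 𝓛}, C a → C b → a ≤ b → 0 ≤ (H b - H a).leadingCoeff
  int : ∀ {a b : 𝓛}, C a → C b → a ≤ b → ∃ z : ℤ, alpha d (H b - H a) = z

variable {𝓛 : Type u} [Lattice 𝓛] [BoundedOrder 𝓛] {d : ℕ} (T : HData 𝓛 d)

namespace HData

/-- the polynomial of the subquotient `b / a`. -/
noncomputable def D (a b : 𝓛) : Polynomial ℚ := T.H b - T.H a

lemma D_add (a b c : 𝓛) : T.D a b + T.D b c = T.D a c := by unfold D; ring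

lemma D_self (a : 𝓛) : T.D a a = 0 := sub_self _

variable {T}
variable {a b c : 𝓛}

lemma alpha_D_nonneg (ha : T.C a) (hb : T.C b) (h : a ≤ b) : 0 ≤ alpha d (T.D a b) := by
  have hdeg := T.deg_le ha hb h
  rcases lt_or_eq_of_le hdeg with h1 | h1
  · rw [D, alpha_eq_zero_of_natDegree_lt h1]
  · have := T.lc_nonneg ha hb h
    rw [Polynomial.leadingCoeff, h1] at this
    unfold alpha D
    positivity

lemma D_eq_zero_or_lc_pos (ha : T.C a) (hb : T.C b) (h : a ≤ b) :
    T.D a b = 0 ∨ 0 < (T.D a b).leadingCoeff := by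
  rcases eq_or_lt_of_le (T.lc_nonneg ha hb h) with h0 | hpos
  · exact Or.inl (Polynomial.leadingCoeff_eq_zero.mp h0.symm)
  · exact Or.inr hpos

lemma D_ev_nonneg (ha : T.C a) (hb : T.C b) (h : a ≤ b) :
    ∃ N : ℕ, ∀ m : ℕ, N ≤ m → 0 ≤ (T.D a b).eval (m : ℚ) := by
  rcases D_eq_zero_or_lc_pos ha hb h with h0 | hpos
  · exact ⟨0, fun m _ => by rw [h0, Polynomial.eval_zero]⟩
  · obtain ⟨N, hN⟩ := eventually_pos_of_leadingCoeff_pos _ hpos
    exact ⟨N, fun m hm => (hN m hm).le⟩

lemma alpha_D_mono (ha : T.C a) (hb : T.C b) (hc : T.C c) (hab : a ≤ b) (hbc : b ≤ c) :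
    alpha d (T.D a b) ≤ alpha d (T.D a c) := by
  rw [← T.D_add a b c, alpha_add]
  linarith [alpha_D_nonneg hb hc hbc]

/-- the modular identity relative to a base point. -/
lemma D_mod (x : 𝓛) (hb : T.C b) (hc : T.C c) :
    T.D x (b ⊓ c) + T.D x (b ⊔ c) = T.D x b + T.D x c := by
  have := T.H_mod hb hc
  unfold D
  linear_combination this

/-- the second isomorphism theorem for polynomials. -/
lemma D_second (hb : T.C b) (hc : T.C c) : T.D (b ⊓ c) c = T.D b (b ⊔ c) := by
  have := T.H_mod hb hc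
  unfold D
  linear_combination -this

variable (T)

/-- every coherent element strictly above `a` has positive multiplicity relative to `a`. -/
def PureAbove (a : 𝓛) : Prop := ∀ c : 𝓛, T.C c → a < c → 0 < alpha d (T.D a c)

/-- `b` is the maximal destabilising element relative to `a`. -/
def IsRelMD (a b : 𝓛) : Prop :=
  T.C b ∧ a < b ∧ ∀ c : 𝓛, T.C c → a < c →
    RedLE d (T.D a c) (T.D a b) ∧ (RedEq d (T.D a c) (T.D a b) → c ≤ b)

variable {T}

lemma IsRelMD.unique {b b' : 𝓛} (h : T.IsRelMD a b) (h' : T.IsRelMD a b') : b = b' := by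
  obtain ⟨hb, hab, H⟩ := h
  obtain ⟨hb', hab', H'⟩ := h'
  obtain ⟨l1, e1⟩ := H b' hb' hab'
  obtain ⟨l2, e2⟩ := H' b hb hab
  have heq := redEq_of_redLE_redLE l1 l2
  exact le_antisymm (e2 heq.symm) (e1 heq)

end HData

end Groth.Agent.H5.MuHN
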