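import Mathlib
import Groth.Agent.Lib.Helper5.MuHN.Abs1

/-! # Harder–Narasimhan theory in a lattice, part 2: existence of the relative maximal
destabilising element. -/

set_option autoImplicit false
universe u

namespace Groth.Agent.H5.MuHN

open StabCat Groth.Agent.H5.HP Groth.Agent.LD

variable {𝓛 : Type u} [Lattice 𝓛] [BoundedOrder 𝓛] {d : ℕ}

/-- numeric core: `P(F ∩ G) + P(F + G) = P(F) + P(G)`, `p(F) ≤ p(G)` and `p(F + G) < p(F)` imply
`p(G) < p(F ∩ G)`. -/
lemma four_term {Pc Ps PF PG : Polynomial ℚ} (hsum : Pc + Ps = PF + PG) (aF : 0 < alpha d PF)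
    (aG : 0 < alpha d PG) (acG : alpha d Pc ≤ alpha d PG)
    (h1 : RedLE d PF PG) (h2 : RedLT d Ps PF) : RedLT d PG Pc := by
  obtain ⟨N₁, h1⟩ := h1
  obtain ⟨N₂, h2⟩ := h2
  refine ⟨max N₁ N₂, fun m hm => ?_⟩
  have a1 := h1 m ((le_max_left _ _).trans hm)
  have a2 := h2 m ((le_max_right _ _).trans hm)
  have e := congrArg (Polynomial.eval (m : ℚ)) hsum
  have ea := congrArg (alpha d) hsum
  simp only [Polynomial.eval_smul, smul_eq_mul, Polynomial.eval_add, alpha_add] at a1 a2 e ea ⊢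
  set f := Polynomial.eval (m : ℚ) PF
  set g := Polynomial.eval (m : ℚ) PG
  set c := Polynomial.eval (m : ℚ) Pc
  set s := Polynomial.eval (m : ℚ) Ps
  set aF' := alpha d PF
  set aG' := alpha d PG
  set ac := alpha d Pc
  set as := alpha d Ps
  have hc : c = f + g - s := by linarith
  have hac : ac = aF' + aG' - as := by linarith
  have key : 0 ≤ (as - aF') * (aF' * g - aG' * f) := by
    apply mul_nonneg
    · linarith
    · linarith
  have h3 : aF' * (aG' * c - ac * g) =
      aF' * aG' * f - aG' * (aF' * s) - aF' * aF' * g + aF' * as * g := by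
    rw [hc, hac]; ring
  have h5 : aG' * (aF' * s) < aG' * (as * f) := mul_lt_mul_of_pos_left a2 aG
  have h6 : aF' * aG' * f - aG' * (as * f) - aF' * aF' * g + aF' * as * g =
      (as - aF') * (aF' * g - aG' * f) := by ring
  have h7 : 0 < aF' * (aG' * c - ac * g) := by rw [h3]; linarith
  have h8 : 0 < aG' * c - ac * g := by
    by_contra hneg
    push Not at hneg
    have := mul_nonpos_of_nonneg_of_nonpos aF.le hneg
    linarith
  linarith

/-- the coherent elements strictly above `a` with positive multiplicity. -/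
structure Sub (T : HData 𝓛 d) (a : 𝓛) where
  val : 𝓛
  coh : T.C val
  lt : a < val
  pos : 0 < alpha d (T.D a val)

namespace Sub

variable {T : HData 𝓛 d} {a : 𝓛}

@[ext] lemma ext' {x y : Sub T a} (h : x.val = y.val) : x = y := by
  cases x; cases y; cases h; rfl

/-- the order `≼`: inclusion together with the comparison of reduced polynomials. -/
instance : PartialOrder (Sub T a) where
  le x y := x.val ≤ y.val ∧ RedLE d (T.D a x.val) (T.D a y.val)
  le_refl x := ⟨le_rfl, redLE_refl d _⟩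
  le_trans x y z h1 h2 := ⟨h1.1.trans h2.1, redLE_trans y.pos x.pos.le z.pos.le h1.2 h2.2⟩
  le_antisymm x y h1 h2 := ext' (le_antisymm h1.1 h2.1)

lemma le_def {x y : Sub T a} : x ≤ y ↔ x.val ≤ y.val ∧ RedLE d (T.D a x.val) (T.D a y.val) :=
  Iff.rfl

/-- ascending chain condition for `≼`. -/
lemma acc (f : ℕ →o Sub T a) : ∃ n, ∀ m, n ≤ m → f m = f n := by
  obtain ⟨n, hn⟩ := T.acc ⟨fun n => (f n).val, fun i j hij => (f.monotone hij).1⟩
    (fun n => (f n).coh)
  exact ⟨n, fun m hm => ext' (hn m hm)⟩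

/-- above every element there is a `≼`-maximal one among those satisfying a predicate. -/
lemma exists_max (R : 𝓛 → Prop) (x : Sub T a) (hx : R x.val) :
    ∃ y : Sub T a, x ≤ y ∧ R y.val ∧ ∀ z : Sub T a, R z.val → y ≤ z → z = y := by
  obtain ⟨y, ⟨hxy, hy⟩, hmax⟩ := Misc.exists_maximal_of_acc {y : Sub T a | x ≤ y ∧ R y.val}
    ⟨x, le_rfl, hx⟩ (fun f _ => acc f)
  exact ⟨y, hxy, hy, fun z hz hyz => hmax z ⟨hxy.trans hyz, hz⟩ hyz⟩

/-- the multiplicity as a natural number. -/
noncomputable def nα (ha : T.C a) (x : Sub T a) : ℕ :=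
  (Classical.choose (T.int ha x.coh x.lt.le)).toNat

lemma nα_spec (ha : T.C a) (x : Sub T a) : ((nα ha x : ℕ) : ℚ) = alpha d (T.D a x.val) := by
  have h := Classical.choose_spec (T.int ha x.coh x.lt.le)
  have hpos := x.pos
  rw [show T.D a x.val = T.H x.val - T.H a from rfl, h] at hpos ⊢
  have hz : 0 ≤ Classical.choose (T.int ha x.coh x.lt.le) := by
    have : (0 : ℚ) < ((Classical.choose (T.int ha x.coh x.lt.le) : ℤ) : ℚ) := hpos
    exact_mod_cast this.le
  unfold nα
  have := Int.toNat_of_nonneg hz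
  exact_mod_cast congrArg (fun z : ℤ => (z : ℚ)) this

end Sub

namespace HData

variable {T : HData 𝓛 d} {a : 𝓛}

open Groth.Agent.H5.MuHN.Sub

/-- an element of `Sub` from a coherent element above `a`. -/
def mkSub (hp : T.PureAbove a) (c : 𝓛) (hc : T.C c) (hlt : a < c) : Sub T a :=
  ⟨c, hc, hlt, hp c hc hlt⟩

/-- Step 3: if `b` is `≼`-maximal, `p(b) ≤ p(G)` and `G ≰ b`, then `p(G) < p(G ⊓ b)`. -/
lemma inter_gt (ha : T.C a) (hp : T.PureAbove a) (b G : Sub T a)
    (hmax : ∀ z : Sub T a, b ≤ z → z = b) (hle : RedLE d (T.D a b.val) (T.D a G.val))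
    (hnle : ¬ G.val ≤ b.val) :
    a < G.val ⊓ b.val ∧ RedLT d (T.D a G.val) (T.D a (G.val ⊓ b.val)) := by
  have hs : T.C (b.val ⊔ G.val) := T.C_sup b.coh G.coh
  have hbs : b.val < b.val ⊔ G.val := by
    refine lt_of_le_of_ne le_sup_left fun h => hnle ?_
    rw [h]; exact le_sup_right
  have has : a < b.val ⊔ G.val := b.lt.trans hbs
  let S : Sub T a := mkSub hp _ hs has
  have hnot : ¬ RedLE d (T.D a b.val) (T.D a (b.val ⊔ G.val)) := by
    intro h
    have : S = b := hmax S ⟨hbs.le, h⟩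
    have h2 : b.val ⊔ G.val = b.val := congrArg Sub.val this
    exact (ne_of_gt hbs) h2
  have hlt : RedLT d (T.D a (b.val ⊔ G.val)) (T.D a b.val) := not_redLE_iff.1 hnot
  have hc : T.C (G.val ⊓ b.val) := T.C_inf G.coh b.coh
  have hac : a ≤ G.val ⊓ b.val := le_inf G.lt.le b.lt.le
  have hmod : T.D a (G.val ⊓ b.val) + T.D a (b.val ⊔ G.val) = T.D a b.val + T.D a G.val := by
    have := D_mod (T := T) a G.coh b.coh
    rw [sup_comm] at this
    rw [this, add_comm]
  have hαle : alpha d (T.D a (G.val ⊓ b.val)) ≤ alpha d (T.D a G.val) :=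
    alpha_D_mono ha hc G.coh hac inf_le_left
  have hres := four_term hmod b.pos G.pos hαle hle hlt
  refine ⟨lt_of_le_of_ne hac fun h => ?_, hres⟩
  rw [← h, D_self] at hres
  obtain ⟨N, hN⟩ := hres
  have := hN N le_rfl
  simp only [alpha_zero, zero_smul, smul_zero, Polynomial.eval_zero, lt_self_iff_false] at this

/-- Step 4: no element inside a `≼`-maximal element of minimal multiplicity has a bigger reduced
polynomial. -/
lemma no_bigger_inside (ha : T.C a) (hp : T.PureAbove a) (b : Sub T a)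
    (hmax : ∀ z : Sub T a, b ≤ z → z = b)
    (hmin : ∀ y : Sub T a, (∀ z : Sub T a, y ≤ z → z = y) → nα ha b ≤ nα ha y)
    (G₀ : Sub T a) (hG₀ : G₀.val ≤ b.val) (hlt₀ : RedLT d (T.D a b.val) (T.D a G₀.val)) :
    False := by
  obtain ⟨G, hG₀G, hGb, hGmax⟩ := Sub.exists_max (fun c => c ≤ b.val) G₀ hG₀
  have hltG : RedLT d (T.D a b.val) (T.D a G.val) :=
    redLT_of_redLT_of_redLE G₀.pos b.pos.le G.pos hlt₀ hG₀G.2
  obtain ⟨G', hGG', -, hG'max⟩ := Sub.exists_max (fun _ => True) G trivial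
  have hltG' : RedLT d (T.D a b.val) (T.D a G'.val) :=
    redLT_of_redLT_of_redLE G.pos b.pos.le G'.pos hltG hGG'.2
  by_cases hG'b : G'.val ≤ b.val
  · -- `G'` is `≼`-maximal inside `b`: contradiction with the minimality of the multiplicity
    have h1 := hmin G' (fun z hz => hG'max z trivial hz)
    have h2 : alpha d (T.D a b.val) ≤ alpha d (T.D a G'.val) := by
      rw [← nα_spec ha b, ← nα_spec ha G']; exact_mod_cast h1
    have h3 : alpha d (T.D a G'.val) ≤ alpha d (T.D a b.val) :=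
      alpha_D_mono ha G'.coh b.coh G'.lt.le hG'b
    have hne : G'.val ≠ b.val := by
      intro h
      rw [h] at hltG'
      exact not_redLT_self d _ hltG'
    have hlt' : G'.val < b.val := lt_of_le_of_ne hG'b hne
    obtain ⟨N₁, hN₁⟩ := D_ev_nonneg G'.coh b.coh hlt'.le
    obtain ⟨N₂, hN₂⟩ := hltG'
    have a1 := hN₁ (max N₁ N₂) (le_max_left _ _)
    have a2 := hN₂ (max N₁ N₂) (le_max_right _ _)
    have e : T.D a b.val = T.D a G'.val + T.D G'.val b.val := (T.D_add a G'.val b.val).symm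
    have hα : alpha d (T.D a G'.val) = alpha d (T.D a b.val) := le_antisymm h3 h2
    simp only [Polynomial.eval_smul, smul_eq_mul] at a2
    rw [hα] at a2
    have e' := congrArg (Polynomial.eval ((max N₁ N₂ : ℕ) : ℚ)) e
    rw [Polynomial.eval_add] at e'
    have hpos := b.pos
    nlinarith
  · obtain ⟨hac, hlt2⟩ := inter_gt ha hp b G' hmax (redLE_of_redLT hltG') hG'b
    let Z : Sub T a := mkSub hp _ (T.C_inf G'.coh b.coh) hac
    have hGZ : G ≤ Z := by
      refine ⟨le_inf hGG'.1 hGb, ?_⟩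
      exact redLE_of_redLT (redLT_of_redLE_of_redLT G'.pos G.pos Z.pos.le hGG'.2 hlt2)
    have hZG : Z = G := hGmax Z inf_le_right hGZ
    have h3 : RedLT d (T.D a G.val) (T.D a Z.val) :=
      redLT_of_redLE_of_redLT G'.pos G.pos Z.pos.le hGG'.2 hlt2
    rw [hZG] at h3
    exact not_redLT_self d _ h3

/-- **existence of the relative maximal destabilising element**. -/
theorem exists_isRelMD (ha : T.C a) (hlt : a < ⊤) (hp : T.PureAbove a) :
    ∃ b : 𝓛, T.IsRelMD a b := by
  classical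
  -- the `≼`-maximal elements
  let M : Set (Sub T a) := {y | ∀ z : Sub T a, y ≤ z → z = y}
  have hMne : M.Nonempty := by
    obtain ⟨y, -, -, hy⟩ := Sub.exists_max (fun _ => True) (mkSub hp ⊤ T.C_top hlt) trivial
    exact ⟨y, fun z hz => hy z trivial hz⟩
  -- one of minimal multiplicity
  let S : Set ℕ := (nα ha) '' M
  have hSne : S.Nonempty := hMne.image _
  obtain ⟨b, hbM, hbmin⟩ : ∃ b ∈ M, ∀ y ∈ M, nα ha b ≤ nα ha y := by
    obtain ⟨b, hb, hbe⟩ := Nat.sInf_mem hSne
    exact ⟨b, hb, fun y hy => hbe ▸ Nat.sInf_le ⟨y, hy, rfl⟩⟩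
  refine ⟨b.val, b.coh, b.lt, fun c hc hac => ?_⟩
  let G : Sub T a := mkSub hp c hc hac
  have hno := no_bigger_inside ha hp b hbM hbmin
  have hin : RedLE d (T.D a b.val) (T.D a c) → c ≤ b.val := by
    intro hle
    by_contra hnle
    obtain ⟨hac', hlt2⟩ := inter_gt ha hp b G hbM hle hnle
    let Z : Sub T a := mkSub hp _ (T.C_inf hc b.coh) hac'
    exact hno Z inf_le_right (redLT_of_redLE_of_redLT G.pos b.pos Z.pos.le hle hlt2)
  rcases redLE_or_redLT d (T.D a b.val) (T.D a c) with hle | hlt'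
  · have hcb := hin hle
    have h2 : RedLE d (T.D a c) (T.D a b.val) := by
      rw [← not_redLT_iff]
      exact fun h => hno G hcb h
    exact ⟨h2, fun _ => hcb⟩
  · exact ⟨redLE_of_redLT hlt', fun he => hin (redLE_of_redEq' he)⟩

end HData

end Groth.Agent.H5.MuHN
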