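import Mathlib
import Groth.Agent.Lib.Helper5.MuHN.Abs2

/-! # Harder–Narasimhan theory in a lattice, part 3: existence and uniqueness of the
Harder–Narasimhan chain. -/

set_option autoImplicit false
universe u

namespace Groth.Agent.H5.MuHN

open StabCat Groth.Agent.H5.HP Groth.Agent.LD

variable {𝓛 : Type u} [Lattice 𝓛] [BoundedOrder 𝓛] {d : ℕ}

section Numeric

variable {P₁ P₂ R : Polynomial ℚ}

lemma redLE_add (h1 : RedLE d P₁ R) (h2 : RedLE d P₂ R) : RedLE d (P₁ + P₂) R := by
  obtain ⟨N₁, h1⟩ := h1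
  obtain ⟨N₂, h2⟩ := h2
  refine ⟨max N₁ N₂, fun m hm => ?_⟩
  have a1 := h1 m ((le_max_left _ _).trans hm)
  have a2 := h2 m ((le_max_right _ _).trans hm)
  simp only [Polynomial.eval_smul, smul_eq_mul, Polynomial.eval_add, alpha_add] at a1 a2 ⊢
  nlinarith

lemma redLT_add (h1 : RedLE d P₁ R) (h2 : RedLT d P₂ R) : RedLT d (P₁ + P₂) R := by
  obtain ⟨N₁, h1⟩ := h1
  obtain ⟨N₂, h2⟩ := h2
  refine ⟨max N₁ N₂, fun m hm => ?_⟩
  have a1 := h1 m ((le_max_left _ _).trans hm)
  have a2 := h2 m ((le_max_right _ _).trans hm)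
  simp only [Polynomial.eval_smul, smul_eq_mul, Polynomial.eval_add, alpha_add] at a1 a2 ⊢
  nlinarith

end Numeric

namespace HData

variable (T : HData 𝓛 d)

/-- the interval `[x, y]` is semistable and pure. -/
def SSP (x y : 𝓛) : Prop :=
  ∀ c : 𝓛, T.C c → x < c → c ≤ y → 0 < alpha d (T.D x c) ∧ RedLE d (T.D x c) (T.D x y)

/-- a Harder–Narasimhan chain of length `n`. -/
structure IsHNChain (n : ℕ) (a : ℕ → 𝓛) : Prop where
  head : a 0 = ⊥
  last : a n = ⊤
  coh : ∀ i, i ≤ n → T.C (a i)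
  lt : ∀ i, i < n → a i < a (i + 1)
  ssp : ∀ i, i < n → T.SSP (a i) (a (i + 1))
  dec : ∀ i, i + 1 < n → RedLT d (T.D (a (i + 1)) (a (i + 2))) (T.D (a i) (a (i + 1)))

variable {T}
variable {a b : 𝓛}

/-- purity propagates to the maximal destabilising element. -/
lemma pureAbove_of_isRelMD (ha : T.C a) (hpa : T.PureAbove a) (h : T.IsRelMD a b) :
    T.PureAbove b := by
  obtain ⟨hb, hab, H⟩ := h
  intro c hc hbc
  have h0 := alpha_D_nonneg hb hc hbc.le
  rcases eq_or_lt_of_le h0 with h1 | h1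
  swap
  · exact h1
  exfalso
  obtain ⟨hle, heq⟩ := H c hc (hab.trans hbc)
  have hDbc : T.D b c = 0 := by
    rcases D_eq_zero_or_lc_pos hb hc hbc.le with h0' | hpos
    · exact h0'
    · exfalso
      obtain ⟨N₁, hN₁⟩ := hle
      obtain ⟨N₂, hN₂⟩ := eventually_pos_of_leadingCoeff_pos _ hpos
      have a1 := hN₁ (max N₁ N₂) (le_max_left _ _)
      have a2 := hN₂ (max N₁ N₂) (le_max_right _ _)
      have e : T.D a c = T.D a b + T.D b c := (T.D_add a b c).symm
      have hpos' := hpa b hb hab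
      simp only [Polynomial.eval_smul, smul_eq_mul] at a1
      rw [e, alpha_add, ← h1, add_zero, Polynomial.eval_add] at a1
      nlinarith
  have e : T.D a c = T.D a b := by rw [← T.D_add a b c, hDbc, add_zero]
  have hcb : c ≤ b := heq (by rw [e]; exact redEq_refl d _)
  exact absurd hcb (not_le_of_gt hbc)

variable (T)

/-- the next step of the Harder–Narasimhan chain. -/
noncomputable def next (a : 𝓛) : 𝓛 := by
  classical
  exact if h : T.C a ∧ a < ⊤ ∧ T.PureAbove a then
    Classical.choose (exists_isRelMD h.1 h.2.1 h.2.2) else ⊤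

variable {T}

lemma next_spec (ha : T.C a) (hlt : a < ⊤) (hp : T.PureAbove a) : T.IsRelMD a (T.next a) := by
  classical
  have h : T.C a ∧ a < ⊤ ∧ T.PureAbove a := ⟨ha, hlt, hp⟩
  unfold next
  rw [dif_pos h]
  exact Classical.choose_spec (exists_isRelMD h.1 h.2.1 h.2.2)

lemma next_top : T.next ⊤ = ⊤ := by
  classical
  unfold next
  rw [dif_neg]
  rintro ⟨-, h, -⟩
  exact lt_irrefl _ h

variable (T)

/-- the invariant of the construction. -/
def Inv (a : 𝓛) : Prop := T.C a ∧ (a = ⊤ ∨ T.PureAbove a)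

/-- the Harder–Narasimhan sequence. -/
noncomputable def seq (i : ℕ) : 𝓛 := T.next^[i] ⊥

variable {T}

lemma inv_next (h : T.Inv a) : T.Inv (T.next a) := by
  obtain ⟨ha, hor⟩ := h
  by_cases htop : a = ⊤
  · rw [htop, next_top]; exact ⟨T.C_top, Or.inl rfl⟩
  · have hp := hor.resolve_left htop
    have hlt : a < ⊤ := lt_of_le_of_ne le_top htop
    have hs := next_spec ha hlt hp
    exact ⟨hs.1, Or.inr (pureAbove_of_isRelMD ha hp hs)⟩

lemma seq_succ (i : ℕ) : T.seq (i + 1) = T.next (T.seq i) := by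
  unfold seq
  rw [Function.iterate_succ_apply']

lemma inv_seq (hp : T.PureAbove ⊥) (i : ℕ) : T.Inv (T.seq i) := by
  induction i with
  | zero => exact ⟨T.C_bot, Or.inr hp⟩
  | succ i ih => rw [seq_succ]; exact inv_next ih

lemma seq_isRelMD (hp : T.PureAbove ⊥) (i : ℕ) (hi : T.seq i ≠ ⊤) :
    T.IsRelMD (T.seq i) (T.seq (i + 1)) := by
  obtain ⟨hc, hor⟩ := inv_seq hp i
  rw [seq_succ]
  exact next_spec hc (lt_of_le_of_ne le_top hi) (hor.resolve_left hi)

lemma seq_le_succ (hp : T.PureAbove ⊥) (i : ℕ) : T.seq i ≤ T.seq (i + 1) := by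
  by_cases hi : T.seq i = ⊤
  · rw [seq_succ, hi, next_top]
  · exact (seq_isRelMD hp i hi).2.1.le

lemma exists_seq_eq_top (hp : T.PureAbove ⊥) : ∃ n, T.seq n = ⊤ := by
  obtain ⟨n, hn⟩ := T.acc ⟨T.seq, monotone_nat_of_le_succ (seq_le_succ hp)⟩
    (fun i => (inv_seq hp i).1)
  refine ⟨n, ?_⟩
  by_contra hne
  have h1 := (seq_isRelMD hp n hne).2.1
  have h2 : T.seq (n + 1) = T.seq n := hn (n + 1) (Nat.le_succ n)
  rw [h2] at h1
  exact lt_irrefl _ h1

/-- **existence of the Harder–Narasimhan chain**. -/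
theorem exists_isHNChain (hp : T.PureAbove ⊥) : ∃ (n : ℕ) (a : ℕ → 𝓛), T.IsHNChain n a := by
  classical
  have hex := exists_seq_eq_top hp
  refine ⟨Nat.find hex, T.seq, ?_⟩
  have hne : ∀ i, i < Nat.find hex → T.seq i ≠ ⊤ := fun i hi => Nat.find_min hex hi
  have hmd : ∀ i, i < Nat.find hex → T.IsRelMD (T.seq i) (T.seq (i + 1)) :=
    fun i hi => seq_isRelMD hp i (hne i hi)
  have hpure : ∀ i, i < Nat.find hex → T.PureAbove (T.seq i) :=
    fun i hi => (inv_seq hp i).2.resolve_left (hne i hi)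
  refine ⟨rfl, Nat.find_spec hex, fun i _ => (inv_seq hp i).1, fun i hi => (hmd i hi).2.1,
    fun i hi c hc hxc _ => ⟨hpure i hi c hc hxc, ((hmd i hi).2.2 c hc hxc).1⟩, fun i hi => ?_⟩
  have h1 := hmd i (by omega)
  have h2 := hmd (i + 1) hi
  have hlt2 : T.seq (i + 1) < T.seq (i + 2) := h2.2.1
  obtain ⟨hle, heq⟩ := h1.2.2 (T.seq (i + 2)) h2.1 (h1.2.1.trans hlt2)
  have hlt : RedLT d (T.D (T.seq i) (T.seq (i + 2))) (T.D (T.seq i) (T.seq (i + 1))) := by
    rw [redLT_iff]
    exact ⟨hle, fun he => absurd (heq he) (not_le_of_gt hlt2)⟩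
  rw [← T.D_add (T.seq i) (T.seq (i + 1)) (T.seq (i + 2))] at hlt
  exact redLT_left_iff'.1 hlt

/-! ### uniqueness -/

section Unique

variable {n : ℕ} {s : ℕ → 𝓛} (hs : T.IsHNChain n s)

include hs

lemma IsHNChain.alpha_pos (i : ℕ) (hi : i < n) : 0 < alpha d (T.D (s i) (s (i + 1))) :=
  (hs.ssp i hi (s (i + 1)) (hs.coh _ hi) (hs.lt i hi) le_rfl).1

lemma IsHNChain.dec_trans (i j : ℕ) (hij : i < j) (hj : j < n) :
    RedLT d (T.D (s j) (s (j + 1))) (T.D (s i) (s (i + 1))) := by
  induction j, hij using Nat.le_induction with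
  | base => exact hs.dec i hj
  | succ j hij ih =>
    have h1 := ih (by omega)
    have h2 := hs.dec j hj
    exact redLT_of_redLT_of_redLE (hs.alpha_pos j (by omega)) (hs.alpha_pos (j + 1) hj).le
      (hs.alpha_pos i (by omega)) h2 (redLE_of_redLT h1)

lemma IsHNChain.mono_le (i j : ℕ) (hij : i ≤ j) (hj : j ≤ n) : s i ≤ s j := by
  induction j, hij using Nat.le_induction with
  | base => exact le_rfl
  | succ j hij ih => exact (ih (by omega)).trans (hs.lt j (by omega)).le

/-- the key induction for uniqueness. -/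
lemma IsHNChain.key (i : ℕ) (hi : i < n) (j : ℕ) (hij : i + 1 ≤ j) (hj : j ≤ n) :
    ∀ c : 𝓛, T.C c → s i < c → c ≤ s j →
      0 < alpha d (T.D (s i) c) ∧ RedLE d (T.D (s i) c) (T.D (s i) (s (i + 1))) ∧
        (RedEq d (T.D (s i) c) (T.D (s i) (s (i + 1))) → c ≤ s (i + 1)) := by
  induction j, hij using Nat.le_induction with
  | base =>
    intro c hc hxc hcy
    obtain ⟨h1, h2⟩ := hs.ssp i hi c hc hxc hcy
    exact ⟨h1, h2, fun _ => hcy⟩
  | succ j hij ih =>
    intro c hc hxc hcz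
    have hjn : j < n := by omega
    by_cases hcy : c ≤ s j
    · exact ih (by omega) c hc hxc hcy
    · have hy := hs.coh j (by omega)
      have hxy : s i ≤ s j := hs.mono_le i j (by omega) (by omega)
      have hc' : T.C (s j ⊓ c) := T.C_inf hy hc
      have hu : T.C (s j ⊔ c) := T.C_sup hy hc
      have hyu : s j < s j ⊔ c := by
        refine lt_of_le_of_ne le_sup_left fun h => hcy ?_
        rw [h]; exact le_sup_right
      have huz : s j ⊔ c ≤ s (j + 1) := sup_le (hs.lt j hjn).le hcz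
      obtain ⟨hQpos, hQle⟩ := hs.ssp j hjn _ hu hyu huz
      have hsec : T.D (s j ⊓ c) c = T.D (s j) (s j ⊔ c) := D_second hy hc
      have hQlt : RedLT d (T.D (s j) (s j ⊔ c)) (T.D (s i) (s (i + 1))) :=
        redLT_of_redLE_of_redLT (hs.alpha_pos j hjn) hQpos (hs.alpha_pos i hi).le hQle
          (hs.dec_trans i j (by omega) hjn)
      have hsum : T.D (s i) c = T.D (s i) (s j ⊓ c) + T.D (s j) (s j ⊔ c) := by
        rw [← hsec, T.D_add]
      have hxc' : s i ≤ s j ⊓ c := le_inf hxy hxc.le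
      rcases eq_or_lt_of_le hxc' with heq | hlt
      · rw [hsum, ← heq, D_self, zero_add]
        refine ⟨hQpos, redLE_of_redLT hQlt, fun he => ?_⟩
        exact absurd he (redLT_iff.1 hQlt).2
      · obtain ⟨h1, h2, -⟩ := ih (by omega) _ hc' hlt inf_le_left
        rw [hsum]
        have h3 := redLT_add h2 hQlt
        refine ⟨by rw [alpha_add]; linarith, redLE_of_redLT h3, fun he => ?_⟩
        exact absurd he (redLT_iff.1 h3).2

/-- each step of a Harder–Narasimhan chain is the relative maximal destabilising element. -/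
theorem IsHNChain.isRelMD (i : ℕ) (hi : i < n) : T.IsRelMD (s i) (s (i + 1)) := by
  refine ⟨hs.coh _ hi, hs.lt i hi, fun c hc hxc => ?_⟩
  have := hs.key i hi n hi le_rfl c hc hxc (by rw [hs.last]; exact le_top)
  exact ⟨this.2.1, this.2.2⟩

end Unique

/-- **uniqueness of the Harder–Narasimhan chain**. -/
theorem IsHNChain.unique {n n' : ℕ} {s s' : ℕ → 𝓛} (hs : T.IsHNChain n s)
    (hs' : T.IsHNChain n' s') : n = n' ∧ ∀ i, i ≤ n → s i = s' i := by
  have key : ∀ i, i ≤ n → i ≤ n' → s i = s' i := by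
    intro i
    induction i with
    | zero => intro _ _; rw [hs.head, hs'.head]
    | succ i ih =>
      intro h1 h2
      have e := ih (by omega) (by omega)
      have m1 := hs.isRelMD i h1
      have m2 := hs'.isRelMD i h2
      rw [← e] at m2
      exact m1.unique m2
  have hn : n = n' := by
    rcases lt_trichotomy n n' with h | h | h
    · exfalso
      have e := key n le_rfl h.le
      have := hs'.lt n h
      rw [← e, hs.last] at this
      exact not_top_lt this
    · exact h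
    · exfalso
      have e := key n' h.le le_rfl
      have := hs.lt n' h
      rw [e, hs'.last] at this
      exact not_top_lt this
  exact ⟨hn, fun i hi => key i hi (hn ▸ hi)⟩

end HData

end Groth.Agent.H5.MuHN
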