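import Mathlib
import Groth.Agent.Lib.Helper5.MuHN.Abs3

/-! # Harder–Narasimhan theory in a lattice (slope version), part 4: quotients, and the
characterisation of the last step of a Harder–Narasimhan chain (helper5; S18973). -/

set_option autoImplicit false
universe u

namespace Groth.Agent.H5.MuHN

open StabCat Groth.Agent.H5.HP Groth.Agent.LD

variable {𝓛 : Type u} [Lattice 𝓛] [BoundedOrder 𝓛] {d : ℕ}

lemma redLE_add_right {P₁ P₂ R : Polynomial ℚ} (h1 : RedLE d R P₁) (h2 : RedLE d R P₂) :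
    RedLE d R (P₁ + P₂) := by
  obtain ⟨N₁, h1⟩ := h1
  obtain ⟨N₂, h2⟩ := h2
  refine ⟨max N₁ N₂, fun m hm => ?_⟩
  have a1 := h1 m ((le_max_left _ _).trans hm)
  have a2 := h2 m ((le_max_right _ _).trans hm)
  simp only [Polynomial.eval_smul, smul_eq_mul, Polynomial.eval_add, alpha_add] at a1 a2 ⊢
  nlinarith

lemma redLT_add_right {P₁ P₂ R : Polynomial ℚ} (h1 : RedLT d R P₁) (h2 : RedLE d R P₂) :
    RedLT d R (P₁ + P₂) := by
  obtain ⟨N₁, h1⟩ := h1
  obtain ⟨N₂, h2⟩ := h2
  refine ⟨max N₁ N₂, fun m hm => ?_⟩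
  have a1 := h1 m ((le_max_left _ _).trans hm)
  have a2 := h2 m ((le_max_right _ _).trans hm)
  simp only [Polynomial.eval_smul, smul_eq_mul, Polynomial.eval_add, alpha_add] at a1 a2 ⊢
  nlinarith

namespace HData

variable {T : HData 𝓛 d}

/-- in an interval `[x, y]` which is semistable and pure, every quotient `y / u` has reduced
polynomial at least that of `y / x`. -/
lemma SSP.quot_ge {x y u : 𝓛} (h : T.SSP x y) (hu : T.C u) (hxu : x ≤ u) (huy : u ≤ y) :
    RedLE d (T.D x y) (T.D u y) := by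
  rcases eq_or_lt_of_le hxu with rfl | hlt
  · exact redLE_refl d _
  · have h1 := (h u hu hlt huy).2
    exact (redLE_sub_iff_quot (T.D_add x u y).symm).1 h1

/-- every quotient of the `(m+1)`-st step of a Harder–Narasimhan chain by a coherent element has
reduced polynomial at least that of the `m`-th factor. -/
theorem IsHNChain.quot_ge_seg {N : ℕ} {s : ℕ → 𝓛} (hs : T.IsHNChain N s) (m : ℕ) (hm : m < N)
    (c : 𝓛) (hc : T.C c) (hcy : c ≤ s (m + 1)) :
    RedLE d (T.D (s m) (s (m + 1))) (T.D c (s (m + 1))) := by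
  have key : ∀ r j : ℕ, j + r = m → ∀ c : 𝓛, T.C c → s j ≤ c → c ≤ s (m + 1) →
      RedLE d (T.D (s m) (s (m + 1))) (T.D c (s (m + 1))) := by
    intro r
    induction r with
    | zero =>
      intro j hj c hc hjc hcy
      have hj' : j = m := by omega
      subst hj'
      exact (hs.ssp j hm).quot_ge hc hjc hcy
    | succ r ih =>
      intro j hj c hc hjc hcy
      have hj1 : j + 1 ≤ m := by omega
      have hy := hs.coh (j + 1) (by omega)
      have hc' : T.C (c ⊔ s (j + 1)) := T.C_sup hc hy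
      have hu : T.C (c ⊓ s (j + 1)) := T.C_inf hc hy
      have hle' : c ⊔ s (j + 1) ≤ s (m + 1) :=
        sup_le hcy (hs.mono_le (j + 1) (m + 1) (by omega) (by omega))
      have h1 := ih (j + 1) (by omega) _ hc' le_sup_right hle'
      have hsec : T.D (c ⊓ s (j + 1)) (s (j + 1)) = T.D c (c ⊔ s (j + 1)) := D_second hc hy
      have h2 : RedLE d (T.D (s j) (s (j + 1))) (T.D (c ⊓ s (j + 1)) (s (j + 1))) :=
        (hs.ssp j (by omega)).quot_ge hu (le_inf hjc (hs.lt j (by omega)).le) inf_le_right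
      have h3 : RedLE d (T.D (s m) (s (m + 1))) (T.D (s j) (s (j + 1))) :=
        redLE_of_redLT (hs.dec_trans j m (by omega) (by omega))
      have h4 : RedLE d (T.D (s m) (s (m + 1))) (T.D c (c ⊔ s (j + 1))) := by
        rw [← hsec]
        exact redLE_trans (hs.alpha_pos j (by omega)) (hs.alpha_pos m (by omega)).le
          (alpha_D_nonneg hu hy inf_le_right) h3 h2
      rw [← T.D_add c (c ⊔ s (j + 1)) (s (m + 1))]
      exact redLE_add_right h4 h1
  have h0 : s 0 ≤ c := by rw [hs.head]; exact bot_le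
  exact key m 0 (by omega) c hc h0 hcy

/-- in a chain `a ≤ b ≤ c` with `α(b / a) = α(c / a)`, the reduced polynomial of `b / a` is at
most that of `c / a`. -/
lemma redLE_of_alpha_eq {a b c : 𝓛} (hb : T.C b) (hc : T.C c) (hbc : b ≤ c)
    (hα : alpha d (T.D a b) = alpha d (T.D a c)) (hpos : 0 ≤ alpha d (T.D a b)) :
    RedLE d (T.D a b) (T.D a c) := by
  obtain ⟨N, hN⟩ := D_ev_nonneg hb hc hbc
  refine ⟨N, fun m hm => ?_⟩
  have a1 := hN m hm
  have e : T.D a c = T.D a b + T.D b c := (T.D_add a b c).symm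
  simp only [Polynomial.eval_smul, smul_eq_mul]
  rw [← hα, e, Polynomial.eval_add]
  nlinarith

/-- **the last step of a Harder–Narasimhan chain is characterised by its multiplicity and its
reduced polynomial** among the coherent elements with pure quotient. -/
theorem IsHNChain.last_eq_of_redEq {m : ℕ} {s : ℕ → 𝓛} (hs : T.IsHNChain (m + 1) s) (c : 𝓛)
    (hc : T.C c) (hpure : T.PureAbove c) (hα : alpha d (T.D c ⊤) = alpha d (T.D (s m) ⊤))
    (hred : RedEq d (T.D (s m) ⊤) (T.D c ⊤)) : c = s m := by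
  have hyC : T.C (s m) := hs.coh m (by omega)
  have hytop : s (m + 1) = ⊤ := hs.last
  have hssp := hs.ssp m (by omega)
  rw [hytop] at hssp
  have hposF : 0 < alpha d (T.D (s m) ⊤) := by
    have := hs.alpha_pos m (by omega)
    rwa [hytop] at this
  have hyc : s m ≤ c := by
    by_contra hnle
    have hu : T.C (c ⊔ s m) := T.C_sup hc hyC
    have hcu : c < c ⊔ s m :=
      lt_of_le_of_ne le_sup_left (fun h => hnle (by rw [h]; exact le_sup_right))
    have hposI : 0 < alpha d (T.D c (c ⊔ s m)) := hpure _ hu hcu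
    have hsec : T.D (c ⊓ s m) (s m) = T.D c (c ⊔ s m) := D_second hc hyC
    cases m with
    | zero =>
      apply hnle
      rw [hs.head]; exact bot_le
    | succ m' =>
      have hq := hs.quot_ge_seg m' (by omega) (c ⊓ s (m' + 1)) (T.C_inf hc hyC) inf_le_right
      have hdec := hs.dec m' (by omega)
      rw [show m' + 2 = m' + 1 + 1 from rfl, hytop] at hdec
      have hlt1 : RedLT d (T.D (s (m' + 1)) ⊤) (T.D (c ⊓ s (m' + 1)) (s (m' + 1))) :=
        redLT_of_redLT_of_redLE (hs.alpha_pos m' (by omega)) hposF.le (hsec ▸ hposI) hdec hq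
      rw [hsec] at hlt1
      have hle2 : RedLE d (T.D (s (m' + 1)) ⊤) (T.D (c ⊔ s (m' + 1)) ⊤) :=
        hssp.quot_ge hu le_sup_right le_top
      have hlt : RedLT d (T.D (s (m' + 1)) ⊤)
          (T.D c (c ⊔ s (m' + 1)) + T.D (c ⊔ s (m' + 1)) ⊤) := redLT_add_right hlt1 hle2
      rw [T.D_add] at hlt
      exact (redLT_iff.1 hlt).2 hred
  by_contra hne
  have hlt : s m < c := lt_of_le_of_ne hyc (Ne.symm hne)
  have hpos := (hssp c hc hlt le_top).1
  have hadd : T.D (s m) ⊤ = T.D (s m) c + T.D c ⊤ := (T.D_add (s m) c ⊤).symm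
  rw [hadd, alpha_add] at hα
  linarith

end HData

end Groth.Agent.H5.MuHN
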