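import Mathlib
import Groth.Agent.Lib.Helper5.MuHN.Abs3
import Groth.Agent.Lib.Helper5.HP.HP8

/-! # Slope Harder–Narasimhan theory: the truncation of a polynomial to its two top coefficients
(helper5; S18833). -/

set_option autoImplicit false

namespace Groth.Agent.H5.MuHN

open StabCat Groth.Agent.H5.HP Polynomial

variable {n : ℕ}

lemma natDegree_topPart_le (ℓ d : ℕ) (P : ℚ[X]) : (topPart ℓ d P).natDegree ≤ d := by
  rw [natDegree_le_iff_coeff_eq_zero]
  intro N hN
  rw [coeff_topPart, if_neg (by omega)]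

lemma topPart_add (ℓ d : ℕ) (P Q : ℚ[X]) :
    topPart ℓ d (P + Q) = topPart ℓ d P + topPart ℓ d Q := by
  ext i
  rw [coeff_add, coeff_topPart, coeff_topPart, coeff_topPart]
  split_ifs <;> simp

lemma alpha_pred_topPart (hn : 1 ≤ n) (P : ℚ[X]) :
    alpha (n - 1) (topPart 1 n P) = alpha (n - 1) P := by
  unfold alpha
  rw [coeff_topPart, if_pos ⟨le_rfl, Nat.sub_le n 1⟩]

lemma crossDiff_topPart (hn : 1 ≤ n) (P Q : ℚ[X]) :
    alpha n Q • topPart 1 n P - alpha n P • topPart 1 n Q =
      monomial (n - 1) (alpha n Q * P.coeff (n - 1) - alpha n P * Q.coeff (n - 1)) := by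
  ext i
  rw [coeff_sub, coeff_smul, coeff_smul, coeff_topPart, coeff_topPart, coeff_monomial]
  by_cases h1 : i = n - 1
  · have hcond : n - 1 ≤ i ∧ i ≤ n := ⟨by omega, by omega⟩
    rw [if_pos hcond, if_pos hcond, if_pos h1.symm, h1]
    simp only [smul_eq_mul]
  · by_cases h2 : i = n
    · have hcond : n - 1 ≤ i ∧ i ≤ n := ⟨by omega, by omega⟩
      rw [if_pos hcond, if_pos hcond, if_neg (by omega), h2]
      unfold alpha
      simp only [smul_eq_mul]
      ring
    · have hcond : ¬ (n - 1 ≤ i ∧ i ≤ n) := by omega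
      rw [if_neg hcond, if_neg hcond, if_neg (by omega)]
      simp

lemma cross_eval (hn : 1 ≤ n) (P Q : ℚ[X]) :
    ∃ c : ℚ, alpha n Q * alpha (n - 1) P - alpha n P * alpha (n - 1) Q =
        ((n - 1).factorial : ℚ) * c ∧
      ∀ m : ℕ, (alpha n (topPart 1 n Q) • topPart 1 n P).eval (m : ℚ) -
        (alpha n (topPart 1 n P) • topPart 1 n Q).eval (m : ℚ) = c * (m : ℚ) ^ (n - 1) := by
  refine ⟨alpha n Q * P.coeff (n - 1) - alpha n P * Q.coeff (n - 1), ?_, fun m => ?_⟩
  · unfold alpha; ring
  · rw [alpha_topPart, alpha_topPart, ← eval_sub, crossDiff_topPart hn, eval_monomial]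

/-- comparison of the truncations is comparison of slopes (cross-multiplied). -/
lemma redLE_topPart_iff (hn : 1 ≤ n) (P Q : ℚ[X]) :
    RedLE n (topPart 1 n P) (topPart 1 n Q) ↔
      alpha n Q * alpha (n - 1) P ≤ alpha n P * alpha (n - 1) Q := by
  obtain ⟨c, key, hev⟩ := cross_eval hn P Q
  have hf : (0 : ℚ) < ((n - 1).factorial : ℚ) := by exact_mod_cast Nat.factorial_pos _
  constructor
  · rintro ⟨N, hN⟩
    have h1 := hN (max N 1) (le_max_left _ _)
    have h2 := hev (max N 1)
    have hm : (0 : ℚ) < ((max N 1 : ℕ) : ℚ) ^ (n - 1) := by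
      apply pow_pos
      exact_mod_cast (lt_of_lt_of_le one_pos (le_max_right N 1))
    have hc0 : c ≤ 0 := by
      by_contra hpos
      push Not at hpos
      have := mul_pos hpos hm
      linarith
    have := mul_nonpos_of_nonneg_of_nonpos hf.le hc0
    linarith
  · intro h
    have hc0 : c ≤ 0 := by
      by_contra hpos
      push Not at hpos
      have := mul_pos hf hpos
      linarith
    refine ⟨0, fun m _ => ?_⟩
    have h2 := hev m
    have : c * (m : ℚ) ^ (n - 1) ≤ 0 := mul_nonpos_of_nonpos_of_nonneg hc0 (by positivity)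
    linarith

lemma redLT_topPart_iff (hn : 1 ≤ n) (P Q : ℚ[X]) :
    RedLT n (topPart 1 n P) (topPart 1 n Q) ↔
      alpha n Q * alpha (n - 1) P < alpha n P * alpha (n - 1) Q := by
  obtain ⟨c, key, hev⟩ := cross_eval hn P Q
  have hf : (0 : ℚ) < ((n - 1).factorial : ℚ) := by exact_mod_cast Nat.factorial_pos _
  constructor
  · rintro ⟨N, hN⟩
    have h1 := hN (max N 1) (le_max_left _ _)
    have h2 := hev (max N 1)
    have hm : (0 : ℚ) < ((max N 1 : ℕ) : ℚ) ^ (n - 1) := by
      apply pow_pos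
      exact_mod_cast (lt_of_lt_of_le one_pos (le_max_right N 1))
    have hc0 : c < 0 := by
      by_contra hpos
      push Not at hpos
      have := mul_nonneg hpos hm.le
      linarith
    have := mul_neg_of_pos_of_neg hf hc0
    linarith
  · intro h
    have hc0 : c < 0 := by
      by_contra hpos
      push Not at hpos
      have := mul_nonneg hf.le hpos
      linarith
    refine ⟨1, fun m hm => ?_⟩
    have h2 := hev m
    have hmpos : (0 : ℚ) < (m : ℚ) ^ (n - 1) := by
      apply pow_pos
      exact_mod_cast (lt_of_lt_of_le one_pos hm)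
    have : c * (m : ℚ) ^ (n - 1) < 0 := mul_neg_of_neg_of_pos hc0 hmpos
    linarith

end Groth.Agent.H5.MuHN
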