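import Mathlib
import Groth.Agent.Lib.Helper5.MuHN.Trunc
import Groth.Agent.Lib.Helper5.HN.Main
import Groth.Agent.Lib.Helper5.HP.HP13

/-! # Slope Harder–Narasimhan theory: the lattice data of a coherent module and the dictionary
between subquotients and intervals (helper5; S18833). -/

set_option autoImplicit false
universe u
open CategoryTheory CategoryTheory.Limits AlgebraicGeometry Opposite TopologicalSpace

namespace Groth.Agent.H5.MuHN

open Groth.Agent.LD Groth.Agent.LD.QC StabCat Groth.Agent.H5.Deg Groth.Agent.H5.HP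
open Groth.Agent.H2

variable (k : Type u) [Field k] (X : Scheme.{u}) [X.Over (Spec (CommRingCat.of k))]
  [IsProper (X ↘ Spec (CommRingCat.of k))] {L : X.Modules} (hA : CohB1.IsAmple L) (n : ℕ)
  {E : X.Modules} (hE : Coh.IsCoh E)
  (hdimE : topologicalKrullDim (CohB1.support E) = (n : WithBot ℕ∞))

/-- **the slope Harder–Narasimhan data of a coherent module with support of dimension `n`**: the
Hilbert polynomial truncated to its two top coefficients. -/
noncomputable def muData : HData (Subobject E) n where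
  C := HN.CohS X
  H := fun a => topPart 1 n (HN.Hs k X hA a)
  C_bot := HN.cohS_bot k X hE
  C_top := HN.cohS_top hE
  C_inf := HN.cohS_inf k hE
  C_sup := HN.cohS_sup k hE
  H_mod := fun ha hb => by rw [← topPart_add, ← topPart_add, HN.Hs_mod k X hA hE ha hb]
  acc := HN.acc_cohS k X hE
  deg_le := fun _ _ _ => by rw [← topPart_sub]; exact natDegree_topPart_le _ _ _
  lc_nonneg := fun {a b} ha hb h => by
    rw [← topPart_sub]
    exact leadingCoeff_nonneg_of_eventually_nonneg _
      (topPart_eventually_nonneg 1 n _ (HN.Hs_deg_le k X hA n hE hdimE ha hb h)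
        (eval_nonneg_eventually k X L hA _ (HN.isCoh_sq h ha hb)
          (HN.hilbPoly_sq k X hA h ha hb)))
  int := fun ha hb h => by
    rw [← topPart_sub, alpha_topPart]; exact HN.Hs_int k X hA n hE hdimE ha hb h

lemma muData_D (x y : Subobject E) :
    (muData k X hA n hE hdimE).D x y = topPart 1 n (HN.Hs k X hA y - HN.Hs k X hA x) := by
  rw [topPart_sub]; rfl

/-- purity of `E` in lattice terms. -/
theorem pureAbove_bot (hp : ShStab.IsPure X E n) : (muData k X hA n hE hdimE).PureAbove ⊥ := by
  intro c hc hlt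
  have hc0 := HN.not_isZero_of_bot_lt k X hA n hE hdimE hc hlt
  rw [muData_D, alpha_topPart, HN.Hs_bot k X hA hE, sub_zero]
  exact alpha_pos_of_isPure k X hA n hp c.arrow hc hc0 (HN.Hs_spec k X hA hc)

/-- a pure slope-semistable subquotient gives a semistable pure interval. -/
theorem SSP_of_isMuSemistable_sq (hn : 1 ≤ n) {x y : Subobject E} (h : x ≤ y)
    (hx : HN.CohS X x) (hy : HN.CohS X y) (hpure : ShStab.IsPure X (HN.sq X h) n)
    (hss : ShStab.IsMuSemistable k X L (HN.sq X h) n) :
    (muData k X hA n hE hdimE).SSP x y := by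
  intro c hc hxc hcy
  have hN : Coh.IsCoh (HN.sq X hxc.le) := HN.isCoh_sq hxc.le hx hc
  have hN0 := HN.not_isZero_sq hxc
  have hpN := HN.hilbPoly_sq k X hA hxc.le hx hc
  have hpQ := HN.hilbPoly_sq k X hA h hx hy
  have hpos := alpha_pos_of_isPure k X hA n hpure (HN.sqMap hxc.le hcy) hN hN0 hpN
  have hposQ := Groth.Agent.H5.Deg.alpha_pos k X hA _ hss.1 hss.2.1 hpQ n hss.2.2.1
  rw [muData_D, muData_D, alpha_topPart]
  refine ⟨hpos, ?_⟩
  rw [redLE_topPart_iff hn]
  have hsl := hatSlope_le_of_mono_of_isMuSemistable k X hA n hpure hss hN hN0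
    (HN.sqMap hxc.le hcy) hpN hpQ
  unfold hatSlope at hsl
  rw [div_le_div_iff₀ hpos hposQ] at hsl
  linarith

section Conv

variable {x y : Subobject E} (h : x < y) (hx : HN.CohS X x) (hy : HN.CohS X y)
  (hssp : (muData k X hA n hE hdimE).SSP x y)

include hx hy hssp in
/-- data of a coherent nonzero submodule of a semistable pure interval. -/
lemma key_of_SSP (N : X.Modules) (j : N ⟶ HN.sq X h.le) [Mono j] (hN : Coh.IsCoh N)
    (hN0 : ¬ IsZero N) :
    ∃ c : Subobject E, ShStab.IsHilbPoly k X L N (HN.Hs k X hA c - HN.Hs k X hA x) ∧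
      0 < alpha n (HN.Hs k X hA c - HN.Hs k X hA x) ∧
      RedLE n (topPart 1 n (HN.Hs k X hA c - HN.Hs k X hA x))
        (topPart 1 n (HN.Hs k X hA y - HN.Hs k X hA x)) ∧
      (HN.Hs k X hA c - HN.Hs k X hA x).natDegree ≤ n := by
  obtain ⟨c, hc, hxc, hcy, hpN⟩ := HN.exists_between_of_mono k X hA h.le hx hy j hN
  have hlt : x < c := by
    refine lt_of_le_of_ne hxc fun he => hN0 ?_
    rw [← he, sub_self] at hpN
    exact isZero_of_isHilbPoly_zero k X L hA N hN hpN
  obtain ⟨h1, h2⟩ := hssp c hc hlt hcy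
  rw [muData_D, alpha_topPart] at h1
  rw [muData_D, muData_D] at h2
  exact ⟨c, hpN, h1, h2, HN.Hs_deg_le k X hA n hE hdimE hx hc hxc⟩

include hx hy hssp in
/-- a semistable pure interval gives a pure subquotient. -/
theorem isPure_sq_of_SSP : ShStab.IsPure X (HN.sq X h.le) n := by
  intro N j hj hN hN0
  haveI := hj
  obtain ⟨c, hpN, hpos, -, hdeg⟩ := key_of_SSP k X hA n hE hdimE h hx hy hssp N j hN hN0
  have hdeg' : (HN.Hs k X hA c - HN.Hs k X hA x).natDegree = n := by
    rcases lt_or_eq_of_le hdeg with h' | h'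
    · rw [alpha_eq_zero_of_natDegree_lt h'] at hpos
      exact absurd hpos (lt_irrefl _)
    · exact h'
  rw [← natDegree_eq_dim k X hA N hN hN0 hpN, hdeg']

include hx hy hssp in
/-- a semistable pure interval gives a slope-semistable subquotient. -/
theorem isMuSemistable_sq_of_SSP (hn : 1 ≤ n) :
    ShStab.IsMuSemistable k X L (HN.sq X h.le) n := by
  have hQ := HN.isCoh_sq h.le hx hy
  have hQ0 := HN.not_isZero_sq h
  have hpQ := HN.hilbPoly_sq k X hA h.le hx hy
  have hp := isPure_sq_of_SSP k X hA n hE hdimE h hx hy hssp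
  refine ⟨hQ, hQ0, dim_support_of_isPure X n hQ hQ0 hp, ?_, ?_⟩
  · intro F ι hι hF
    by_cases hF0 : IsZero F
    · have hemp : IsEmpty (CohB1.support F) := by
        rw [support_eq_empty_of_isZero hF0]; exact Set.isEmpty_coe_sort.mpr rfl
      have : topologicalKrullDim (CohB1.support F) = ⊥ := by
        unfold topologicalKrullDim
        haveI : IsEmpty (TopologicalSpace.IrreducibleCloseds (CohB1.support F)) :=
          ⟨fun T => hemp.false T.isIrreducible.nonempty.some⟩
        exact Order.krullDim_eq_bot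
      rw [this, WithBot.bot_add]
      exact WithBot.bot_ne_coe
    · rw [hp F ι hι hF hF0]
      intro h'
      have : ((n + 1 : ℕ) : WithBot ℕ∞) = ((n : ℕ) : WithBot ℕ∞) := by
        push_cast; exact h'
      have h2 : n + 1 = n := by exact_mod_cast this
      omega
  · intro F ι hι hF pF pE hpF hpE hpos hlt
    haveI := hι
    have hF0 := not_isZero_of_alpha_pos k X hA n hpF hpos
    obtain ⟨c, hpN, hposc, hle, -⟩ := key_of_SSP k X hA n hE hdimE h hx hy hssp F ι hF hF0
    have e1 := isHilbPoly_unique k X L _ hpF hpN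
    have e2 := isHilbPoly_unique k X L _ hpE hpQ
    rw [redLE_topPart_iff hn, ← e1, ← e2] at hle
    unfold hatSlope
    rw [div_le_div_iff₀ hpos (hpos.trans hlt)]
    linarith

end Conv

end Groth.Agent.H5.MuHN
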