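import Mathlib
import Groth.Agent.Lib.Helper5.MuHN.Abs4
import Groth.Agent.Lib.Helper5.MuHN.Conc
import Groth.Agent.Lib.Helper5.HP.HP17

/-! # `ℓ`-Harder–Narasimhan filtrations: the last factor is the minimal destabilising quotient
(helper5; S18973). -/

set_option autoImplicit false
universe u
open CategoryTheory CategoryTheory.Limits AlgebraicGeometry Opposite TopologicalSpace

namespace Groth.Agent.H5.MuHN

open Groth.Agent.LD Groth.Agent.LD.QC StabCat Groth.Agent.H5.Deg Groth.Agent.H5.HP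
open Groth.Agent.H2

section Cat

variable {C : Type*} [Category C] [Abelian C] {E G : C} (q : E ⟶ G) [Epi q]

/-- the quotient by the kernel subobject of an epimorphism is its target. -/
theorem exists_cokernel_iso_of_eq_kernel (y : Subobject E) (h : y = Subobject.mk (kernel.ι q)) :
    ∃ φ : cokernel y.arrow ≅ G, cokernel.π y.arrow ≫ φ.hom = q := by
  subst h
  haveI : Epi (Abelian.factorThruCoimage q) := epi_of_epi_fac (Abelian.coimage.fac q)
  haveI : IsIso (Abelian.factorThruCoimage q) := isIso_of_mono_of_epi _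
  let e2 : cokernel (Subobject.mk (kernel.ι q)).arrow ≅ cokernel (kernel.ι q) :=
    cokernel.mapIso _ _ (Subobject.underlyingIso (kernel.ι q)) (Iso.refl E)
      (by simp [Subobject.underlyingIso_arrow])
  refine ⟨e2 ≪≫ asIso (Abelian.factorThruCoimage q), ?_⟩
  have h1 : cokernel.π (Subobject.mk (kernel.ι q)).arrow ≫ e2.hom =
      cokernel.π (kernel.ι q) := by
    simp [e2]
  rw [Iso.trans_hom, ← Category.assoc, h1]
  exact Abelian.coimage.fac q

end Cat

variable (k : Type u) [Field k] (X : Scheme.{u}) [X.Over (Spec (CommRingCat.of k))]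
  [IsProper (X ↘ Spec (CommRingCat.of k))] {L : X.Modules} (hA : CohB1.IsAmple L) (n : ℕ)
  {E : X.Modules} (hE : Coh.IsCoh E)
  (hdimE : topologicalKrullDim (CohB1.support E) = (n : WithBot ℕ∞)) (ℓ : ℕ)

/-- **the `ℓ`-Harder–Narasimhan data of a coherent module with support of dimension `n`**: the
Hilbert polynomial truncated to its `ℓ + 1` top coefficients. -/
noncomputable def ellData : HData (Subobject E) n where
  C := HN.CohS X
  H := fun a => topPart ℓ n (HN.Hs k X hA a)
  C_bot := HN.cohS_bot k X hE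
  C_top := HN.cohS_top hE
  C_inf := HN.cohS_inf k hE
  C_sup := HN.cohS_sup k hE
  H_mod := fun ha hb => by rw [← topPart_add, ← topPart_add, HN.Hs_mod k X hA hE ha hb]
  acc := HN.acc_cohS k X hE
  deg_le := fun _ _ _ => by rw [← topPart_sub]; exact natDegree_topPart_le _ _ _
  lc_nonneg := fun {a b} ha hb h => by
    rw [← topPart_sub]
    exact leadingCoeff_nonneg_of_eventually_nonneg _
      (topPart_eventually_nonneg ℓ n _ (HN.Hs_deg_le k X hA n hE hdimE ha hb h)
        (eval_nonneg_eventually k X L hA _ (HN.isCoh_sq h ha hb)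
          (HN.hilbPoly_sq k X hA h ha hb)))
  int := fun ha hb h => by
    rw [← topPart_sub, alpha_topPart]; exact HN.Hs_int k X hA n hE hdimE ha hb h

lemma ellData_D (x y : Subobject E) :
    (ellData k X hA n hE hdimE ℓ).D x y =
      topPart ℓ n (HN.Hs k X hA y - HN.Hs k X hA x) := by
  rw [topPart_sub]; rfl

/-- an `ℓ`-semistable subquotient gives a semistable pure interval. -/
theorem SSP_of_isEllSemistable_sq {x y : Subobject E} (h : x ≤ y)
    (hx : HN.CohS X x) (hy : HN.CohS X y)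
    (hss : ShStab.IsEllSemistable k X L (HN.sq X h) n ℓ) :
    (ellData k X hA n hE hdimE ℓ).SSP x y := by
  intro c hc hxc hcy
  have hN : Coh.IsCoh (HN.sq X hxc.le) := HN.isCoh_sq hxc.le hx hc
  have hN0 := HN.not_isZero_sq hxc
  have hpN := HN.hilbPoly_sq k X hA hxc.le hx hc
  have hpQ := HN.hilbPoly_sq k X hA h hx hy
  have hpos := alpha_pos_of_isPure k X hA n hss.2.2.1 (HN.sqMap hxc.le hcy) hN hN0 hpN
  have hdimQ := dim_support_of_isPure X n hss.1 hss.2.1 hss.2.2.1
  obtain ⟨hle, -⟩ := alpha_le_of_mono k X hA n hss.1 hN (HN.sqMap hxc.le hcy) hdimQ hpN hpQ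
  have hpos' : 0 < alpha n ((ellData k X hA n hE hdimE ℓ).D x c) := by
    rw [ellData_D, alpha_topPart]; exact hpos
  refine ⟨hpos', ?_⟩
  rcases lt_or_eq_of_le hle with hlt | heq
  · rw [ellData_D, ellData_D]
    exact hss.2.2.2 _ (HN.sqMap hxc.le hcy) inferInstance hN _ _ hpN hpQ hpos hlt
  · apply HData.redLE_of_alpha_eq (T := ellData k X hA n hE hdimE ℓ) hc hy hcy _ hpos'.le
    rw [ellData_D, ellData_D, alpha_topPart, alpha_topPart]
    exact heq

include hE in
/-- an `ℓ`-Harder–Narasimhan filtration gives a Harder–Narasimhan chain. -/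
theorem isHNChain_of_isHNWith (s : LTSeries (Subobject E))
    (hs : StabCat.IsHNWith (fun G => ShStab.IsEllSemistable k X L G n ℓ)
      (fun G P => ∃ Q : Polynomial ℚ, ShStab.IsHilbPoly k X L G Q ∧ P = StabCat.topPart ℓ n Q)
      n E s) :
    (ellData k X hA n hE hdimE ℓ).IsHNChain s.length (HN.toSeq X s) := by
  obtain ⟨h0, h1, hss, hdec⟩ := hs
  have hcoh : ∀ j : Fin (s.length + 1), HN.CohS X (s j) :=
    HN.cohS_of_factors k X hE s h0 (fun i => (hss i).1)
  refine ⟨?_, ?_, ?_, ?_, ?_, ?_⟩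
  · have := HN.toSeq_fin X s 0
    rw [Fin.val_zero] at this
    rw [this]; exact h0
  · have := HN.toSeq_fin X s (Fin.last _)
    rw [Fin.val_last] at this
    rw [this]; exact h1
  · intro i hi
    have := HN.toSeq_fin X s ⟨i, by omega⟩
    simp only at this
    rw [this]; exact hcoh _
  · intro i hi
    rw [HN.toSeq_castSucc X s ⟨i, hi⟩, HN.toSeq_succ X s ⟨i, hi⟩]
    exact s.step ⟨i, hi⟩
  · intro i hi
    rw [HN.toSeq_castSucc X s ⟨i, hi⟩, HN.toSeq_succ X s ⟨i, hi⟩]
    exact SSP_of_isEllSemistable_sq k X hA n hE hdimE ℓ (le_of_lt (s.step ⟨i, hi⟩)) (hcoh _)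
      (hcoh _) (hss ⟨i, hi⟩)
  · intro i hi
    have hi' : i < s.length := by omega
    have e1 := HN.toSeq_castSucc X s ⟨i, hi'⟩
    have e2 := HN.toSeq_succ X s ⟨i, hi'⟩
    have e3 := HN.toSeq_castSucc X s ⟨i + 1, hi⟩
    have e4 := HN.toSeq_succ X s ⟨i + 1, hi⟩
    simp only at e1 e2 e3 e4
    rw [show i + 2 = i + 1 + 1 from rfl, e4, e3, e1, ellData_D, ellData_D]
    have hIJ : (⟨i, hi'⟩ : Fin s.length).succ = (⟨i + 1, hi⟩ : Fin s.length).castSucc :=
      Fin.ext rfl
    have hp1 := HN.hilbPoly_sq k X hA (le_of_lt (s.step ⟨i, hi'⟩)) (hcoh _) (hcoh _)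
    have hp2 := HN.hilbPoly_sq k X hA (le_of_lt (s.step ⟨i + 1, hi⟩)) (hcoh _) (hcoh _)
    have key := hdec ⟨i, hi'⟩ ⟨i + 1, hi⟩ rfl _ _ ⟨_, hp1, rfl⟩ ⟨_, hp2, rfl⟩
    rw [hIJ] at key
    exact key

include hA hE in
/-- **S18973**: the last factor of an `ℓ`-Harder–Narasimhan filtration is the unique pure
quotient with its multiplicity and reduced truncated Hilbert polynomial. -/
theorem exists_iso_lastFactor (h0 : ¬ IsZero E) (hp : ShStab.IsPure X E n)
    (s : LTSeries (Subobject E))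
    (hs : StabCat.IsHNWith (fun G => ShStab.IsEllSemistable k X L G n ℓ)
      (fun G P => ∃ Q : Polynomial ℚ, ShStab.IsHilbPoly k X L G Q ∧ P = StabCat.topPart ℓ n Q)
      n E s)
    (G : X.Modules) (q : E ⟶ G) [Epi q] (hG : Coh.IsCoh G) (hGp : ShStab.IsPure X G n)
    (pF pG : Polynomial ℚ)
    (hpF : ShStab.IsHilbPoly k X L (cokernel s.eraseLast.last.arrow) pF)
    (hpG : ShStab.IsHilbPoly k X L G pG) (hα : alpha n pF = alpha n pG)
    (hred : RedEq n (topPart ℓ n pF) (topPart ℓ n pG)) :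
    ∃ φ : (cokernel s.eraseLast.last.arrow) ≅ G,
      cokernel.π s.eraseLast.last.arrow ≫ φ.hom = q := by
  have hdimE := dim_support_of_isPure X n hE h0 hp
  let T := ellData k X hA n hE hdimE ℓ
  have hch := isHNChain_of_isHNWith k X hA n hE hdimE ℓ s hs
  -- the chain is not trivial
  have hlen : s.length ≠ 0 := by
    intro h
    have e1 : s.head = s.last := by
      unfold RelSeries.head RelSeries.last
      congr 1
      apply Fin.ext
      simp [h]
    rw [hs.1, hs.2.1] at e1
    apply h0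
    have e : ((⊥ : Subobject E) : X.Modules) ≅ E :=
      Subobject.isoOfEq _ _ e1 ≪≫ asIso (⊤ : Subobject E).arrow
    exact ((isZero_zero _).of_iso Subobject.botCoeIsoZero).of_iso e.symm
  obtain ⟨m, hm⟩ : ∃ m, s.length = m + 1 := ⟨s.length - 1, by omega⟩
  have hch' : T.IsHNChain (m + 1) (HN.toSeq X s) := hm ▸ hch
  -- the element `y = s m`
  have hy : HN.toSeq X s m = s.eraseLast.last := by
    rw [RelSeries.last_eraseLast]
    have := HN.toSeq_fin X s ⟨m, by omega⟩
    simp only at this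
    rw [this]
    congr 1
    apply Fin.ext
    simp [hm]
  have hyC : HN.CohS X s.eraseLast.last := hy ▸ hch'.coh m (by omega)
  -- the kernel of `q`
  have hKc : Coh.IsCoh (kernel q) := isCoh_kernel' k X (φ := q) hE hG
  set c : Subobject E := Subobject.mk (kernel.ι q) with hcdef
  have hc : HN.CohS X c := HN.cohS_mk (kernel.ι q) hKc
  -- comparison isomorphisms
  have sqTopIso : ∀ z : Subobject E, HN.sq X (le_top : z ≤ ⊤) ≅ cokernel z.arrow := fun z =>
    cokernel.mapIso _ _ (Iso.refl _) (asIso (⊤ : Subobject E).arrow)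
      (by simp [Subobject.ofLE_arrow])
  obtain ⟨φc, -⟩ := exists_cokernel_iso_of_eq_kernel q c rfl
  have hpGc : ShStab.IsHilbPoly k X L (HN.sq X (le_top : c ≤ ⊤)) pG :=
    isHilbPoly_of_iso k X L (sqTopIso c ≪≫ φc).symm hpG
  have hpFy : ShStab.IsHilbPoly k X L (HN.sq X (le_top : s.eraseLast.last ≤ ⊤)) pF :=
    isHilbPoly_of_iso k X L (sqTopIso s.eraseLast.last).symm hpF
  have eG : pG = HN.Hs k X hA ⊤ - HN.Hs k X hA c :=
    isHilbPoly_unique k X L _ hpGc (HN.hilbPoly_sq k X hA le_top hc (HN.cohS_top hE))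
  have eF : pF = HN.Hs k X hA ⊤ - HN.Hs k X hA s.eraseLast.last :=
    isHilbPoly_unique k X L _ hpFy (HN.hilbPoly_sq k X hA le_top hyC (HN.cohS_top hE))
  -- purity above `c`
  have hpureSq : ShStab.IsPure X (HN.sq X (le_top : c ≤ ⊤)) n :=
    isPure_of_mono X n hGp (sqTopIso c ≪≫ φc).hom
  have hpure : T.PureAbove c := by
    intro c' hc' hlt
    have hN : Coh.IsCoh (HN.sq X hlt.le) := HN.isCoh_sq hlt.le hc hc'
    have hN0 := HN.not_isZero_sq hlt
    have hpN := HN.hilbPoly_sq k X hA hlt.le hc hc'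
    have := alpha_pos_of_isPure k X hA n hpureSq (HN.sqMap hlt.le (le_top : c' ≤ ⊤)) hN hN0 hpN
    change 0 < alpha n ((ellData k X hA n hE hdimE ℓ).D c c')
    rw [ellData_D, alpha_topPart]
    exact this
  have key : c = HN.toSeq X s m := by
    apply HData.IsHNChain.last_eq_of_redEq (T := T) hch' c hc hpure
    · change alpha n ((ellData k X hA n hE hdimE ℓ).D c ⊤) =
        alpha n ((ellData k X hA n hE hdimE ℓ).D (HN.toSeq X s m) ⊤)
      rw [ellData_D, ellData_D, alpha_topPart, alpha_topPart, hy, ← eG, ← eF]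
      exact hα.symm
    · change RedEq n ((ellData k X hA n hE hdimE ℓ).D (HN.toSeq X s m) ⊤)
        ((ellData k X hA n hE hdimE ℓ).D c ⊤)
      rw [ellData_D, ellData_D, hy, ← eG, ← eF]
      exact hred
  exact exists_cokernel_iso_of_eq_kernel q s.eraseLast.last (by rw [← hy, ← key])

end Groth.Agent.H5.MuHN
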