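import Mathlib
import Groth.Agent.Lib.Helper5.MuHN.Conc

/-! # Slope Harder–Narasimhan theory: existence and uniqueness of the slope Harder–Narasimhan
filtration of a pure coherent module (helper5; S18833). -/

set_option autoImplicit false
universe u
open CategoryTheory CategoryTheory.Limits AlgebraicGeometry Opposite TopologicalSpace

namespace Groth.Agent.H5.MuHN

open Groth.Agent.LD Groth.Agent.LD.QC StabCat Groth.Agent.H5.Deg Groth.Agent.H5.HP
open Groth.Agent.H2

variable (k : Type u) [Field k] (X : Scheme.{u}) [X.Over (Spec (CommRingCat.of k))]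
  [IsProper (X ↘ Spec (CommRingCat.of k))] {L : X.Modules} (hA : CohB1.IsAmple L) (n : ℕ)
  {E : X.Modules} (hE : Coh.IsCoh E)
  (hdimE : topologicalKrullDim (CohB1.support E) = (n : WithBot ℕ∞))

/-- the property of a slope Harder–Narasimhan filtration. -/
def IsMuHN (s : LTSeries (Subobject E)) : Prop :=
  s.head = ⊥ ∧ s.last = ⊤ ∧
    (∀ i : Fin s.length,
      ShStab.IsPure X (StabCat.factor s i) n ∧
        ShStab.IsMuSemistable k X L (StabCat.factor s i) n) ∧
    ∀ (i j : Fin s.length), i.val + 1 = j.val →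
      ∀ (p q : Polynomial ℚ), ShStab.IsHilbPoly k X L (StabCat.factor s i) p →
        ShStab.IsHilbPoly k X L (StabCat.factor s j) q →
        StabCat.hatSlope n q < StabCat.hatSlope n p

include hE in
/-- a slope Harder–Narasimhan filtration gives a Harder–Narasimhan chain. -/
theorem isHNChain_of_isMuHN (hn : 1 ≤ n) (s : LTSeries (Subobject E))
    (hs : IsMuHN k X (L := L) n s) :
    (muData k X hA n hE hdimE).IsHNChain s.length (HN.toSeq X s) := by
  obtain ⟨h0, h1, hss, hdec⟩ := hs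
  have hcoh : ∀ j : Fin (s.length + 1), HN.CohS X (s j) :=
    HN.cohS_of_factors k X hE s h0 (fun i => (hss i).2.1)
  refine ⟨?_, ?_, ?_, ?_, ?_, ?_⟩
  · have := HN.toSeq_fin X s 0
    rw [Fin.val_zero] at this
    rw [this]; exact h0
  · have := HN.toSeq_fin X s (Fin.last _)
    rw [Fin.val_last] at this
    rw [this]; exact h1
  · intro i hi
    have := HN.toSeq_fin X s ⟨i, by omega⟩
    simp only at this
    rw [this]; exact hcoh _
  · intro i hi
    rw [HN.toSeq_castSucc X s ⟨i, hi⟩, HN.toSeq_succ X s ⟨i, hi⟩]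
    exact s.step ⟨i, hi⟩
  · intro i hi
    rw [HN.toSeq_castSucc X s ⟨i, hi⟩, HN.toSeq_succ X s ⟨i, hi⟩]
    exact SSP_of_isMuSemistable_sq k X hA n hE hdimE hn (le_of_lt (s.step ⟨i, hi⟩)) (hcoh _)
      (hcoh _) (hss ⟨i, hi⟩).1 (hss ⟨i, hi⟩).2
  · intro i hi
    have hi' : i < s.length := by omega
    have e1 := HN.toSeq_castSucc X s ⟨i, hi'⟩
    have e2 := HN.toSeq_succ X s ⟨i, hi'⟩
    have e3 := HN.toSeq_castSucc X s ⟨i + 1, hi⟩
    have e4 := HN.toSeq_succ X s ⟨i + 1, hi⟩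
    simp only at e1 e2 e3 e4
    rw [show i + 2 = i + 1 + 1 from rfl, e4, e3, e1, muData_D, muData_D, redLT_topPart_iff hn]
    have hIJ : (⟨i, hi'⟩ : Fin s.length).succ = (⟨i + 1, hi⟩ : Fin s.length).castSucc :=
      Fin.ext rfl
    have hp1 := HN.hilbPoly_sq k X hA (le_of_lt (s.step ⟨i, hi'⟩)) (hcoh _) (hcoh _)
    have hp2 := HN.hilbPoly_sq k X hA (le_of_lt (s.step ⟨i + 1, hi⟩)) (hcoh _) (hcoh _)
    have key := hdec ⟨i, hi'⟩ ⟨i + 1, hi⟩ rfl _ _ hp1 hp2
    have hpos1 := Groth.Agent.H5.Deg.alpha_pos k X hA _ (hss ⟨i, hi'⟩).2.1 (hss ⟨i, hi'⟩).2.2.1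
      hp1 n (hss ⟨i, hi'⟩).2.2.2.1
    have hpos2 := Groth.Agent.H5.Deg.alpha_pos k X hA _ (hss ⟨i + 1, hi⟩).2.1
      (hss ⟨i + 1, hi⟩).2.2.1 hp2 n (hss ⟨i + 1, hi⟩).2.2.2.1
    rw [hIJ] at key hpos1
    unfold hatSlope at key
    rw [div_lt_div_iff₀ hpos2 hpos1] at key
    linarith

include hA hE in
/-- **S18833**: existence and uniqueness of the slope Harder–Narasimhan filtration. -/
theorem existsUnique_isMuHN (hn : 1 ≤ n) (h0 : ¬ IsZero E) (hp : ShStab.IsPure X E n) :
    ∃! s : LTSeries (Subobject E), IsMuHN k X (L := L) n s := by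
  have hdimE := dim_support_of_isPure X n hE h0 hp
  let T := muData k X hA n hE hdimE
  obtain ⟨N, a, ha⟩ := HData.exists_isHNChain (T := T) (pureAbove_bot k X hA n hE hdimE hp)
  have hmono : StrictMono (fun i : Fin (N + 1) => a i.val) := by
    rw [Fin.strictMono_iff_lt_succ]
    intro i
    exact ha.lt i.val i.isLt
  refine ⟨LTSeries.mk N (fun i => a i.val) hmono, ⟨?_, ?_, ?_, ?_⟩, ?_⟩
  · change a ((0 : Fin (N + 1)).val) = ⊥
    rw [Fin.val_zero]; exact ha.head
  · exact ha.last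
  · intro i
    exact ⟨isPure_sq_of_SSP k X hA n hE hdimE (ha.lt i.val i.isLt)
        (ha.coh _ (le_of_lt i.isLt)) (ha.coh _ i.isLt) (ha.ssp i.val i.isLt),
      isMuSemistable_sq_of_SSP k X hA n hE hdimE (ha.lt i.val i.isLt)
        (ha.coh _ (le_of_lt i.isLt)) (ha.coh _ i.isLt) (ha.ssp i.val i.isLt) hn⟩
  · intro i j hij p q hp' hq'
    have hj : i.val + 1 < N := hij ▸ j.isLt
    have e1 : p = HN.Hs k X hA (a (i.val + 1)) - HN.Hs k X hA (a i.val) :=
      isHilbPoly_unique k X L _ hp' (HN.hilbPoly_sq k X hA (ha.lt i.val i.isLt).le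
        (ha.coh _ (le_of_lt i.isLt)) (ha.coh _ i.isLt))
    have hjv : j.val = i.val + 1 := hij.symm
    have e2 : q = HN.Hs k X hA (a (i.val + 2)) - HN.Hs k X hA (a (i.val + 1)) := by
      have := HN.hilbPoly_sq k X hA (ha.lt j.val j.isLt).le (ha.coh _ (le_of_lt j.isLt))
        (ha.coh _ j.isLt)
      have e := isHilbPoly_unique k X L _ hq' this
      rw [e, hjv]
    have hd := ha.dec i.val hj
    have hpos1 := ha.alpha_pos i.val i.isLt
    have hpos2 := ha.alpha_pos (i.val + 1) hj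
    rw [muData_D, alpha_topPart] at hpos1 hpos2
    rw [muData_D, muData_D, redLT_topPart_iff hn] at hd
    rw [e1, e2]
    unfold hatSlope
    rw [div_lt_div_iff₀ hpos2 hpos1]
    linarith
  · intro s' hs'
    have h' := isHNChain_of_isMuHN k X hA n hE hdimE hn s' hs'
    obtain ⟨hn', heq⟩ := h'.unique ha
    refine RelSeries.ext hn' ?_
    funext i
    have := heq i.val (Nat.lt_succ_iff.mp i.isLt)
    rw [HN.toSeq_fin] at this
    rw [this]
    rfl

end Groth.Agent.H5.MuHN
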